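import Mathlib
import Cfsg.Agent.Lib.Core.Basic
import Cfsg.Agent.Lib.Frob.Kernel
import Cfsg.Agent.Lib.Frob.FPF
import Cfsg.Agent.S1545

/-! FB, first part: lemmas on finite groups.  See `plans/PTV.md`. -/

set_option autoImplicit false

namespace CfsgLib.PTV.FbA

open Subgroup Cfsg
open scoped commutatorElement

universe u

variable {G : Type u} [Group G] {p : ℕ} [Fact p.Prime]

theorem mem_of_pow {S : Subgroup G} {y : G} {n : ℤ} (hn : (n : ZMod p) ≠ 0) (h1 : y ^ n ∈ S)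
    (h2 : y ^ p ∈ S) : y ∈ S := by
  have h3 : IsCoprime n (p : ℤ) := by
    rw [Ne, ZMod.intCast_zmod_eq_zero_iff_dvd] at hn
    exact ((Nat.prime_iff_prime_int.1 (Fact.out : p.Prime)).coprime_iff_not_dvd.2 hn).symm
  obtain ⟨a, b, e⟩ := h3
  have : y = (y ^ n) ^ a * (y ^ p) ^ b := by
    rw [← zpow_natCast, ← zpow_mul, ← zpow_mul, ← zpow_add, mul_comm n, mul_comm (p : ℤ), e, zpow_one]
  rw [this]
  exact mul_mem (zpow_mem h1 a) (zpow_mem h2 b)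

theorem comm_pow_left {a b : G} (h : ⁅a, b⁆ * a = a * ⁅a, b⁆) (n : ℕ) : ⁅a ^ n, b⁆ = ⁅a, b⁆ ^ n := by
  induction n with
  | zero => simp
  | succ n ih =>
    have h1 : ⁅a ^ (n + 1), b⁆ = a * ⁅a ^ n, b⁆ * a⁻¹ * ⁅a, b⁆ := by
      simp only [commutatorElement_def, pow_succ']
      group
    have h2 : a * ⁅a, b⁆ ^ n = ⁅a, b⁆ ^ n * a := ((Commute.pow_left h n).eq).symm
    rw [h1, ih, h2, mul_inv_cancel_right, pow_succ]

theorem comm_pow_pow {a b : G} (h : ⁅a, b⁆ * a = a * ⁅a, b⁆) (h' : ⁅a, b⁆ * b = b * ⁅a, b⁆) (n : ℕ) :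
    ⁅a ^ n, b ^ n⁆ = ⁅a, b⁆ ^ (n * n) := by
  have h1 : ⁅b, a⁆ * b = b * ⁅b, a⁆ := by
    rw [← commutatorElement_inv]
    exact (Commute.inv_left h').eq
  have h2 : ⁅a, b ^ n⁆ = ⁅a, b⁆ ^ n := by
    rw [← commutatorElement_inv, comm_pow_left h1, ← inv_pow, commutatorElement_inv]
  rw [comm_pow_left (by rw [h2]; exact (Commute.pow_left h n).eq), h2, ← pow_mul]

theorem abel {Y C : Subgroup G} {h : G} {m : ℕ} (hCY : C ≤ Y) (nC : ∀ y ∈ Y, ∀ c ∈ C, y * c * y⁻¹ ∈ C)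
    (cC : ∀ c ∈ C, ∀ c' ∈ C, c * c' = c' * c) (hC : ∀ c ∈ C, h * c = c * h)
    (e : ∀ y ∈ Y, h * y * h⁻¹ * (y ^ m)⁻¹ ∈ C) (pw : ∀ y ∈ Y, y ^ p ∈ C)
    (cm : ∀ y ∈ Y, ∀ y' ∈ Y, ⁅y, y'⁆ ∈ C) (pC : ∀ c ∈ C, c ^ p = 1) (m2 : (m : ZMod p) ^ 2 ≠ 1) :
    ∀ y ∈ Y, ∀ y' ∈ Y, y * y' = y' * y := by
  have m1 : (((m : ℤ) - 1 : ℤ) : ZMod p) ≠ 0 := by
    push_cast
    intro e1
    exact m2 (by rw [sub_eq_zero.1 e1, one_pow])
  have h1 : ∀ y ∈ Y, ∀ c ∈ C, c * y = y * c := by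
    intro y hy c hc
    have hS : ∀ c' ∈ C, c' ∈ centralizer ({c} : Set G) := fun c' hc' =>
      mem_centralizer_singleton_iff.2 (cC c' hc' c hc)
    have h2 : y⁻¹ * h * y ∈ centralizer ({c} : Set G) := by
      rw [mem_centralizer_singleton_iff]
      calc y⁻¹ * h * y * c = y⁻¹ * (h * (y * c * y⁻¹)) * y := by group
        _ = c * (y⁻¹ * h * y) := by rw [hC _ (nC y hy c hc)]; group
    have h3 : h ∈ centralizer ({c} : Set G) := mem_centralizer_singleton_iff.2 (hC c hc)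
    have h4 : y ^ ((m : ℤ) - 1) ∈ centralizer ({c} : Set G) := by
      have h5 := hS _ (nC _ (inv_mem hy) _ (e y hy))
      have : y ^ ((m : ℤ) - 1) = (y⁻¹ * (h * y * h⁻¹ * (y ^ m)⁻¹) * y⁻¹⁻¹)⁻¹ * (y⁻¹ * h * y * h⁻¹) := by
        group
      rw [this]
      exact mul_mem (inv_mem h5) (mul_mem h2 (inv_mem h3))
    exact (mem_centralizer_singleton_iff.1 (mem_of_pow m1 h4 (hS _ (pw y hy)))).symm
  intro y hy y' hy'
  have t := cm y hy y' hy'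
  have h2 : ⁅y, y'⁆ = ⁅y, y'⁆ ^ (m * m) := by
    obtain ⟨c, hc, e1⟩ : ∃ c ∈ C, h * y * h⁻¹ = c * y ^ m := ⟨_, e y hy, by group⟩
    obtain ⟨c', hc', e2⟩ : ∃ c ∈ C, h * y' * h⁻¹ = c * y' ^ m := ⟨_, e y' hy', by group⟩
    have a1 := h1 _ (pow_mem hy m)
    have a2 := h1 _ (pow_mem hy' m)
    rw [← comm_pow_pow (h1 y hy _ t) (h1 y' hy' _ t)]
    calc ⁅y, y'⁆ = h * ⁅y, y'⁆ * h⁻¹ := by rw [hC _ t]; group
      _ = ⁅c * y ^ m, c' * y' ^ m⁆ := by rw [← e1, ← e2]; simp only [commutatorElement_def]; group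
      _ = ⁅y ^ m, y' ^ m⁆ := by
        simp only [commutatorElement_def, mul_inv_rev]
        have b1 := h1 _ (mul_mem (mul_mem (pow_mem hy m) (mul_mem (hCY hc') (pow_mem hy' m)))
          (inv_mem (pow_mem hy m))) c hc
        have b2 := h1 _ (mul_mem (mul_mem (pow_mem hy' m) (inv_mem (pow_mem hy m)))
          (inv_mem (pow_mem hy' m))) c' hc'
        calc c * y ^ m * (c' * y' ^ m) * ((y ^ m)⁻¹ * c⁻¹) * ((y' ^ m)⁻¹ * c'⁻¹)
            = c * (y ^ m * (c' * y' ^ m) * (y ^ m)⁻¹) * c⁻¹ * ((y' ^ m)⁻¹ * c'⁻¹) := by group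
          _ = y ^ m * (c' * (y' ^ m * (y ^ m)⁻¹ * (y' ^ m)⁻¹)) * c'⁻¹ := by rw [b1]; group
          _ = y ^ m * y' ^ m * (y ^ m)⁻¹ * (y' ^ m)⁻¹ := by rw [b2]; group
  have h3 : ⁅y, y'⁆ ∈ (⊥ : Subgroup G) := by
    refine mem_of_pow (p := p) (n := (m : ℤ) * m - 1) ?_ ?_ (by rw [pC _ t]; exact one_mem _)
    · push_cast
      intro e1
      exact m2 (by linear_combination e1)
    · rw [zpow_sub, ← Nat.cast_mul, zpow_natCast, ← h2, zpow_one, mul_inv_cancel]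
      exact one_mem _
  exact commutatorElement_eq_one_iff_mul_comm.1 (Subgroup.mem_bot.1 h3)

theorem exists_quot (E : Subgroup G) : ∃ (X : Type u) (_ : Group X) (π : normalizer (E : Set G) →* X),
    ∀ a, π a = 1 ↔ (a : G) ∈ E :=
  ⟨_, inferInstance, QuotientGroup.mk' (E.subgroupOf (normalizer (E : Set G))), fun a => by
    rw [QuotientGroup.mk'_apply, QuotientGroup.eq_one_iff, mem_subgroupOf]⟩

theorem decE {Y C E : Subgroup G} {h : G} {m : ℕ} (hEC : E ≤ C) (hCY : C ≤ Y)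
    (nY : Y ≤ normalizer (E : Set G)) (nh : h ∈ normalizer (E : Set G))
    (nC : ∀ y ∈ Y, ∀ c ∈ C, y * c * y⁻¹ ∈ C)
    (cC : ∀ c ∈ C, ∀ c' ∈ C, c * c' = c' * c) (hC : ∀ c ∈ C, h * c * h⁻¹ * c⁻¹ ∈ E)
    (e : ∀ y ∈ Y, h * y * h⁻¹ * (y ^ m)⁻¹ ∈ C) (pw : ∀ y ∈ Y, y ^ p ∈ C)
    (cm : ∀ y ∈ Y, ∀ y' ∈ Y, ⁅y, y'⁆ ∈ C) (pC : ∀ c ∈ C, c ^ p = 1) (m2 : (m : ZMod p) ^ 2 ≠ 1) :
    ∃ U : Subgroup G, (∀ u, u ∈ U ↔ u ∈ Y ∧ h * u * h⁻¹ * (u ^ m)⁻¹ ∈ E) ∧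
      ∀ y ∈ Y, ∃ c ∈ C, y * c ∈ U := by
  obtain ⟨X, _, π, hπ⟩ := exists_quot E
  let H := normalizer (E : Set G)
  let η : H := ⟨h, nh⟩
  have hh : ∀ c : H, (c : G) ∈ C → π η * π c = π c * π η := fun c hc => by
    have := (hπ (η * c * η⁻¹ * c⁻¹)).2 (hC c hc)
    simp only [map_mul, map_inv] at this
    exact commutatorElement_eq_one_iff_mul_comm.1 this
  have ab : ∀ a b : H, (a : G) ∈ Y → (b : G) ∈ Y → π a * π b = π b * π a := by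
    intro a b ha hb
    refine abel (p := p) (Y := (Y.subgroupOf H).map π) (C := (C.subgroupOf H).map π) (h := π η) (m := m)
      (map_mono fun _ h => hCY h) ?_ ?_ ?_ ?_ ?_ ?_ ?_ m2 _ ⟨a, ha, rfl⟩ _ ⟨b, hb, rfl⟩
    · rintro _ ⟨y, hy, rfl⟩ _ ⟨c, hc, rfl⟩
      exact ⟨y * c * y⁻¹, nC y hy c hc, by simp only [map_mul, map_inv]⟩
    · rintro _ ⟨c, hc, rfl⟩ _ ⟨c', hc', rfl⟩
      rw [← map_mul, ← map_mul, show c * c' = c' * c from Subtype.ext (cC _ hc _ hc')]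
    · rintro _ ⟨c, hc, rfl⟩
      exact hh c hc
    · rintro _ ⟨y, hy, rfl⟩
      exact ⟨η * y * η⁻¹ * (y ^ m)⁻¹, e y hy, by simp only [map_mul, map_inv, map_pow]⟩
    · rintro _ ⟨y, hy, rfl⟩
      exact ⟨y ^ p, pw y hy, map_pow _ _ _⟩
    · rintro _ ⟨y, hy, rfl⟩ _ ⟨y', hy', rfl⟩
      exact ⟨⁅y, y'⁆, cm y hy y' hy', map_commutatorElement _ _ _⟩
    · rintro _ ⟨c, hc, rfl⟩
      rw [← map_pow, show c ^ p = 1 from Subtype.ext (pC _ hc), map_one]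
  have key : ∀ u : H, h * u * h⁻¹ * ((u : G) ^ m)⁻¹ ∈ E ↔ π η * π u * (π η)⁻¹ = π u ^ m := fun u => by
    have := hπ (η * u * η⁻¹ * (u ^ m)⁻¹)
    simp only [map_mul, map_inv, map_pow, mul_inv_eq_one] at this
    exact this.symm
  refine ⟨⟨⟨⟨{u | u ∈ Y ∧ h * u * h⁻¹ * (u ^ m)⁻¹ ∈ E}, ?_⟩, ?_⟩, ?_⟩, fun u => Iff.rfl, ?_⟩
  · rintro a b ⟨ha, h1⟩ ⟨hb, h2⟩
    refine ⟨mul_mem ha hb, (key (⟨a, nY ha⟩ * ⟨b, nY hb⟩)).2 ?_⟩
    have h3 := (key ⟨a, nY ha⟩).1 h1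
    have h4 := (key ⟨b, nY hb⟩).1 h2
    rw [map_mul, Commute.mul_pow (ab _ _ ha hb), ← h3, ← h4]
    group
  · exact ⟨one_mem _, by simpa using one_mem E⟩
  · rintro a ⟨ha, h1⟩
    refine ⟨inv_mem ha, (key (⟨a, nY ha⟩⁻¹)).2 ?_⟩
    have h3 := (key ⟨a, nY ha⟩).1 h1
    rw [map_inv, inv_pow, ← h3]
    group
  · intro y hy
    have m1 : (m : ZMod p) - 1 ≠ 0 := fun e1 => m2 (by rw [sub_eq_zero.1 e1, one_pow])
    set j := (((m : ZMod p) - 1)⁻¹).val with hj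
    let y' : H := ⟨y, nY hy⟩
    let c : H := η * y' * η⁻¹ * (y' ^ m)⁻¹
    have hc : (c : G) ∈ C := e y hy
    refine ⟨(c : G) ^ j, pow_mem hc j, mul_mem hy (hCY (pow_mem hc j)), (key (y' * c ^ j)).2 ?_⟩
    have h1 : π η * π y' * (π η)⁻¹ = π c * π y' ^ m := by
      simp only [c, map_mul, map_inv, map_pow]
      group
    have h2 : Commute (π y') (π c) := ab _ _ hy (hCY hc)
    have h3 : Commute (π η) (π c) := hh c hc
    have h4 : π c ^ (j + 1) = π c ^ (j * m) := by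
      have h5 : π c ^ p = 1 := by
        rw [← map_pow, show c ^ p = 1 from Subtype.ext (pC _ hc), map_one]
      rw [pow_eq_pow_iff_modEq]
      refine Nat.ModEq.of_dvd (orderOf_dvd_of_pow_eq_one h5) ?_
      rw [← ZMod.natCast_eq_natCast_iff]
      push_cast
      rw [hj, ZMod.natCast_zmod_val]
      field_simp
      ring
    rw [map_mul, map_pow, (h2.pow_right j).mul_pow, ← pow_mul, ← h4]
    calc π η * (π y' * π c ^ j) * (π η)⁻¹ = π η * π y' * (π c ^ j * (π η)⁻¹) := by group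
      _ = π c * π y' ^ m * π c ^ j := by rw [← h1, ← (h3.inv_left.pow_right j).eq]; group
      _ = π y' ^ m * π c ^ (j + 1) := by rw [← (h2.pow_left m).eq, pow_succ']; group

/-- `Ω₁ Z(Q / E)` -/
theorem exists_A [Finite G] {Q E : Subgroup G} (hEQ : E ≤ Q) (nE : Q ≤ normalizer (E : Set G))
    (pQ : IsPGroup p Q) (hne : ¬ Q ≤ E) : ∃ A : Subgroup G,
      (∀ a, a ∈ A ↔ a ∈ Q ∧ a ^ p ∈ E ∧ ∀ b ∈ Q, ⁅a, b⁆ ∈ E) ∧ ¬ A ≤ E := by
  obtain ⟨X, _, π, hπ⟩ := exists_quot E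
  let H := normalizer (E : Set G)
  have k1 : ∀ a : H, (a : G) ^ p ∈ E ↔ π a ^ p = 1 := fun a => by rw [← map_pow, hπ]; rfl
  have k2 : ∀ a b : H, ⁅(a : G), (b : G)⁆ ∈ E ↔ Commute (π a) (π b) := fun a b => by
    rw [← commutatorElement_eq_one_iff_commute, ← map_commutatorElement, hπ]; rfl
  refine ⟨⟨⟨⟨{a | a ∈ Q ∧ a ^ p ∈ E ∧ ∀ b ∈ Q, ⁅a, b⁆ ∈ E}, ?_⟩, ?_⟩, ?_⟩, fun u => Iff.rfl, ?_⟩
  · rintro a a' ⟨ha, h1, h2⟩ ⟨ha', h3, h4⟩
    refine ⟨mul_mem ha ha', (k1 (⟨a, nE ha⟩ * ⟨a', nE ha'⟩)).2 ?_, fun b hb =>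
      (k2 (⟨a, nE ha⟩ * ⟨a', nE ha'⟩) ⟨b, nE hb⟩).2 ?_⟩
    · rw [map_mul, ((k2 ⟨a, nE ha⟩ ⟨a', nE ha'⟩).1 (h2 _ ha')).mul_pow, (k1 ⟨a, nE ha⟩).1 h1,
        (k1 ⟨a', nE ha'⟩).1 h3, mul_one]
    · rw [map_mul]
      exact ((k2 ⟨a, nE ha⟩ ⟨b, nE hb⟩).1 (h2 _ hb)).mul_left ((k2 ⟨a', nE ha'⟩ ⟨b, nE hb⟩).1 (h4 _ hb))
  · exact ⟨one_mem _, by simpa using one_mem E, fun b _ => by simpa using one_mem E⟩
  · rintro a ⟨ha, h1, h2⟩
    refine ⟨inv_mem ha, by rw [inv_pow]; exact inv_mem h1, fun b hb => (k2 (⟨a, nE ha⟩⁻¹) ⟨b, nE hb⟩).2 ?_⟩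
    rw [map_inv]
    exact ((k2 ⟨a, nE ha⟩ ⟨b, nE hb⟩).1 (h2 _ hb)).inv_left
  · intro hle
    set P := (Q.subgroupOf H).map π
    have hP : IsPGroup p P := pQ.comap_subtype.map π
    haveI : Finite P := Finite.of_surjective _ (π.subgroupMap_surjective (Q.subgroupOf H))
    haveI : Nontrivial P := by
      rw [Subgroup.nontrivial_iff_exists_ne_one]
      obtain ⟨a, ha, h1⟩ := SetLike.not_le_iff_exists.1 hne
      exact ⟨_, ⟨⟨a, nE ha⟩, ha, rfl⟩, fun e => h1 ((hπ _).1 e)⟩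
    haveI := hP.center_nontrivial
    have h1 : p ∣ Nat.card (center P) :=
      ((hP.to_subgroup _).card_eq_or_dvd).resolve_left (Finite.one_lt_card).ne'
    obtain ⟨⟨⟨_, a, ha, rfl⟩, hz⟩, ho⟩ := exists_prime_orderOf_dvd_card' p h1
    have h2 : π a ^ p = 1 := by
      have := pow_orderOf_eq_one (⟨⟨π a, a, ha, rfl⟩, hz⟩ : center P)
      rw [ho] at this
      exact congrArg (fun t : center P => ((t : P) : X)) this
    have h3 : (a : G) ∈ E := hle ⟨ha, (k1 a).2 h2, fun b hb => (k2 a ⟨b, nE hb⟩).2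
      (congrArg Subtype.val (Subgroup.mem_center_iff.1 hz ⟨π ⟨b, nE hb⟩, ⟨b, nE hb⟩, hb, rfl⟩)).symm⟩
    have h4 : (⟨⟨π a, a, ha, rfl⟩, hz⟩ : center P) = 1 := Subtype.ext (Subtype.ext ((hπ a).2 h3))
    rw [h4, orderOf_one] at ho
    exact (Fact.out : p.Prime).one_lt.ne ho

/-- the preimage of the Frobenius kernel of `O / E` -/
theorem frob_lift [Finite G] {O E H : Subgroup G} (hE : E ≤ H) (hH : H ≤ O) (nE : O ≤ normalizer (E : Set G))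
    (ti : ∀ g ∈ O, ∀ k ∈ H, k ∉ E → g * k * g⁻¹ ∈ H → g ∈ H) : ∃ W : Subgroup G,
      (∀ g, g ∈ W ↔ g ∈ O ∧ (g ∈ E ∨ ∀ o ∈ O, o * g * o⁻¹ ∉ H)) ∧ ∀ o ∈ O, ∃ w ∈ W, ∃ k ∈ H, o = w * k := by
  haveI : (E.subgroupOf O).Normal := (normal_subgroupOf_iff_le_normalizer (hE.trans hH)).2 nE
  set π := QuotientGroup.mk' (E.subgroupOf O)
  have hπ : ∀ a : O, π a = 1 ↔ (a : G) ∈ E := fun a => by
    rw [QuotientGroup.mk'_apply, QuotientGroup.eq_one_iff, mem_subgroupOf]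
  have sj : Function.Surjective π := QuotientGroup.mk'_surjective _
  have mH : ∀ a : O, π a ∈ (H.subgroupOf O).map π ↔ (a : G) ∈ H := fun a => by
    refine ⟨?_, fun h => ⟨a, h, rfl⟩⟩
    rintro ⟨b, hb, e⟩
    have h1 : ((b⁻¹ * a : O) : G) ∈ E := (hπ _).1 (by rw [map_mul, map_inv, e, inv_mul_cancel])
    have : (a : G) = b * (b⁻¹ * a : O) := by simp
    rw [this]
    exact mul_mem hb (hE h1)
  obtain ⟨N, hN, -, hc⟩ := Frob.exists_normal_complement_of_ti (H := (H.subgroupOf O).map π) (by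
    intro g k hk h1 h2
    obtain ⟨g, rfl⟩ := sj g
    obtain ⟨k, rfl⟩ := sj k
    rw [← map_inv, ← map_mul, ← map_mul, mH] at h2
    exact (mH g).2 (ti g g.2 k ((mH k).1 hk) (fun e => h1 ((hπ k).2 e)) h2))
  have mN : ∀ a : O, π a ∈ N ↔ ((a : G) ∈ E ∨ ∀ o ∈ O, o * a * o⁻¹ ∉ H) := fun a => by
    rw [← SetLike.mem_coe, hN, Frob.mem_kernel_iff, hπ]
    refine or_congr_right ⟨fun h o ho e => h (π ⟨o, ho⟩) ?_, fun h g e => ?_⟩
    · rw [← map_inv, ← map_mul, ← map_mul, mH]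
      exact e
    · obtain ⟨g, rfl⟩ := sj g
      rw [← map_inv, ← map_mul, ← map_mul, mH] at e
      exact h g g.2 e
  refine ⟨(N.comap π).map O.subtype, fun g => ⟨?_, fun ⟨h1, h2⟩ => ⟨⟨g, h1⟩, (mN _).2 h2, rfl⟩⟩, ?_⟩
  · rintro ⟨a, ha, rfl⟩
    exact ⟨a.2, (mN a).1 ha⟩
  · intro o ho
    obtain ⟨⟨⟨n, hn⟩, ⟨_, k, hk, rfl⟩⟩, e⟩ := hc.2 (π ⟨o, ho⟩)
    refine ⟨o * (k : G)⁻¹, ⟨⟨o, ho⟩ * k⁻¹, ?_, rfl⟩, k, hk, by group⟩
    change π _ ∈ N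
    rw [map_mul, map_inv, ← e]
    simpa using hn

/-- a Frobenius group `U⟨h⟩` acting on `N` with `C_N(h) = 1` -/
theorem cent_of_frob [Finite G] {U N : Subgroup G} {h : G} {r : ℕ} (hr : r.Prime) (ho : orderOf h = r)
    (pU : IsPGroup p U) (hU : U ≠ ⊥) (nU : ∀ u ∈ U, h * u * h⁻¹ ∈ U) (fU : ∀ u ∈ U, h * u = u * h → u = 1)
    (cop : (Nat.card N).Coprime p) (sN : Group.IsSolvable N) (UN : U ≤ normalizer (N : Set G))
    (hN : h ∈ normalizer (N : Set G)) (fN : ∀ n ∈ N, h * n = n * h → n = 1) :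
    ∀ u ∈ U, ∀ n ∈ N, u * n = n * u := by
  have h1 : h ≠ 1 := fun e => hr.one_lt.ne' (by rw [← ho, e, orderOf_one])
  have gen : ∀ e ∈ zpowers h, e ≠ 1 → ∀ u : G, e * u = u * e → h * u = u * h := by
    intro e he e1 u hu
    haveI : Fact (Nat.card (zpowers h)).Prime := ⟨by rw [Nat.card_zpowers, ho]; exact hr⟩
    have h2 : zpowers e = zpowers h := by
      refine Subgroup.eq_of_le_of_card_ge (zpowers_le.2 he) ?_
      have h3 := Subgroup.card_dvd_of_le (zpowers_le.2 he)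
      rw [Nat.card_zpowers, Nat.card_zpowers, ho] at h3 ⊢
      exact (((Nat.dvd_prime hr).1 h3).resolve_left fun e2 => e1 (orderOf_eq_one_iff.1 e2)).ge
    obtain ⟨k, rfl⟩ : h ∈ zpowers e := h2 ▸ mem_zpowers h
    exact (Commute.zpow_left hu k).eq
  have nU' : zpowers h ≤ normalizer (U : Set G) := zpowers_le.2 (Core.mem_normalizer_of_forall_conj_mem nU)
  have nN : U ⊔ zpowers h ≤ normalizer (N : Set G) := sup_le UN (zpowers_le.2 hN)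
  have c1 : (Nat.card N).Coprime r := by
    have := Frob.card_modEq_one_of_fpf (K := N) (H := zpowers h) (zpowers_le.2 hN) (by
      intro e he e1
      rw [eq_bot_iff]
      rintro n ⟨hn, hc⟩
      exact Subgroup.mem_bot.2 (fN n hn (gen e he e1 n (mem_centralizer_singleton_iff.1 hc).symm)))
    rw [Nat.card_zpowers, ho] at this
    exact Nat.coprime_of_mul_modEq_one 1 (by rwa [mul_one])
  have c2 : (Nat.card N).Coprime (Nat.card (U ⊔ zpowers h : Subgroup G)) := by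
    have h2 := Core.card_sup_dvd_of_le_normalizer nU'
    rw [sup_comm, Nat.card_zpowers, ho] at h2
    exact Nat.Coprime.coprime_dvd_right h2 (Nat.Coprime.mul_right c1 (Core.isPGroup_coprime_card pU cop).symm)
  have key := Cfsg.Agent.S1545.result U (zpowers h) N hU (by rwa [Ne, zpowers_eq_bot]) (by
      rw [eq_bot_iff]
      rintro u ⟨hu, k, rfl⟩
      exact Subgroup.mem_bot.2 (fU _ hu (Commute.self_zpow h k).eq))
    (fun e he u hu => (nU' he u).1 hu) (fun e he e1 u hu e2 => fU u hu (gen e he e1 u e2))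
    (fun x hx n hn => (nN hx n).1 hn) (Core.inf_eq_bot_of_coprime_card c2) sN c2
  have b1 : N ⊓ centralizer (zpowers h : Set G) = ⊥ := by
    rw [eq_bot_iff]
    rintro n ⟨hn, hc⟩
    exact Subgroup.mem_bot.2 (fN n hn (hc h (mem_zpowers h)))
  have b2 : N ⊓ centralizer ((U ⊔ zpowers h : Subgroup G) : Set G) = ⊥ := by
    rw [eq_bot_iff, ← b1]
    exact inf_le_inf_left _ (centralizer_le (SetLike.coe_subset_coe.2 le_sup_right))
  rw [b1, b2, Subgroup.card_bot, one_pow, one_mul, one_mul] at key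
  have b3 := Subgroup.eq_of_le_of_card_ge (inf_le_left : N ⊓ centralizer (U : Set G) ≤ N) key.le
  intro u hu n hn
  exact (b3.ge hn).2 u hu

end CfsgLib.PTV.FbA
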