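import Mathlib
import Cfsg.Agent.Lib.PTV.Defs
import Cfsg.Agent.Lib.HKS.KSMain

/-! ODD: nilpotent transitive root groups in odd degree.  See `plans/PTV.md`. -/

set_option autoImplicit false

namespace CfsgLib.PTV

open Subgroup Cfsg MulAction
open CfsgLib.HKS.CoA (up lo dg)
open scoped commutatorElement MatrixGroups

universe u

variable {G : Type u} [Group G] [Finite G] {Ω : Type u} [Finite Ω] [MulAction G Ω]

open CfsgLib.StrEmb CfsgLib.RankOne CfsgLib.Bender CfsgLib.HKS in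
theorem card_of_odd {U : Ω → Subgroup G} (h : HKS.NT U) (ho : Odd (Nat.card Ω)) (hr : ¬ HKS.HasReg G Ω) :
    ∃ k, Nat.card Ω = 2 ^ k + 1 := by
  have h3 := h.three
  have : Nontrivial Ω := Finite.one_lt_card_iff_nontrivial.1 (by omega)
  obtain ⟨a, b, hab⟩ := exists_pair_ne Ω
  obtain ⟨N, z, hN, hz, hz2, hza, hU⟩ := ON.exists_G0 h ho a
  have := ON.faithful h
  have htr := Perm.normal_transitive_of_two_transitive (ON.two_tr h)
  have hN0 : N ≠ ⊥ := fun e => ne_one_of_orderOf hz2 (mem_bot.1 (e ▸ hz))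
  have hU' : UniqueFix N Ω := fun t ht => hU t t.2 (by rwa [orderOf_coe])
  have : IsPretransitive N Ω := ⟨fun c d => let ⟨g, hg, e⟩ := htr N hN0 c d; ⟨⟨g, hg⟩, e⟩⟩
  have hz2' : orderOf (⟨z, hz⟩ : N) = 2 := by rwa [orderOf_mk]
  have h2 : Rank2 N := by
    by_contra h2
    have hO : pPrimeCore 2 N = ⊥ := by
      by_contra hO
      have := Core.map_pPrimeCore_normal (p := 2) N
      obtain ⟨A, hA, hA0, -, hc⟩ := Recog.exists_abelian_normal_of_solvable
        ((pPrimeCore 2 N).map N.subtype) (fun e => hO ((map_eq_bot_iff_of_injective _ N.subtype_injective).1 e))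
        (FT.odd_order_solvable (by
          rw [card_map_of_injective N.subtype_injective]
          exact Nat.coprime_two_right.1 (Core.coprime_card_pPrimeCore 2 N)))
      refine hr ⟨A, hA, htr A hA0, fun c g hg e => h.faith g fun d => ?_⟩
      obtain ⟨x, hx, rfl⟩ := htr A hA0 c d
      rw [← mul_smul, hc g hg x hx, mul_smul, e]
    have h4 := BCor.sup_centralizer_of_not_rank2 h2 hz2'
    rw [hO, bot_sup_eq] at h4
    obtain ⟨g, hg⟩ := exists_smul_eq N a b
    exact hab ((hU'.fix_of_commute hz2' hza ((h4.ge (mem_top g)) _ rfl)).symm.trans hg)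
  obtain ⟨t, ht2, hta⟩ : ∃ t : N, orderOf t = 2 ∧ t • a = b := by
    obtain ⟨g, h4, h5⟩ := is_two_pretransitive_iff.1 (ON.two_tr h)
      (show b ≠ z • b from fun e => hab (hU'.eq_of_fix hz2' hza e.symm)) hab
    refine ⟨⟨g * z * g⁻¹, hN.conj_mem z hz g⟩, by rw [orderOf_mk, orderOf_conj, hz2], ?_⟩
    show (g * z * g⁻¹) • a = b
    rw [mul_smul, mul_smul, inv_smul_eq_iff.2 h4.symm, h5]
  obtain ⟨Q, hS⟩ := BenderRed.exists_setup hU' (BenderRed.rank2_iff_R2_top.1 h2) ht2 (hta ▸ hab.symm)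
  obtain ⟨k, hk⟩ := IsPGroup.iff_card.1 (concl hS h2).1
  exact ⟨k, by rw [card_points hS, hk]⟩

end CfsgLib.PTV
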